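import Groth.Agent.H4Depth.DepthLemmas
import Mathlib

/-!
# Schematic density and depth
-/

set_option autoImplicit false
universe u
open CategoryTheory AlgebraicGeometry LocCoh

namespace Groth.Agent.H25Dense

/-- If outside `U` the maximal ideal of every local ring contains a regular element, restriction to `U`
is injective (after helper8). -/
theorem restrict_injective {X : Scheme.{u}} (U : X.Opens)
    (hZ : ∀ z : X, z ∉ U → ∃ a ∈ IsLocalRing.maximalIdeal (X.presheaf.stalk z),
      IsSMulRegular (X.presheaf.stalk z) a) (V : X.Opens) :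
    Function.Injective (X.presheaf.map (homOfLE (inf_le_left : V ⊓ U ≤ V)).op) := by
  show Function.Injective (X.presheaf.map (homOfLE (inf_le_left : V ⊓ U ≤ V)).op).hom
  rw [injective_iff_map_eq_zero]
  intro a ha
  refine TopCat.Presheaf.section_ext X.sheaf V a 0 fun z hz ↦ ?_
  show X.presheaf.germ V z hz a = X.presheaf.germ V z hz 0
  rw [map_zero]
  obtain ⟨W, hW, hzW, hWV'⟩ := exists_isAffineOpen_mem_and_subset (x := z) (U := V) hz
  have hWV : W ≤ V := hWV'
  rw [show X.presheaf.germ V z hz = X.presheaf.map (homOfLE hWV).op ≫ X.presheaf.germ W z hzW from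
    (X.presheaf.germ_res (homOfLE hWV) z hzW).symm]
  show X.presheaf.germ W z hzW (X.presheaf.map (homOfLE hWV).op a) = 0
  suffices h : X.presheaf.map (homOfLE hWV).op a = 0 by rw [h, map_zero]
  set b := X.presheaf.map (homOfLE hWV).op a with hbdef
  by_contra hb
  have hann : Submodule.annihilator (Ideal.span {b}) ≠ ⊤ := by
    intro h
    have h1 : (1 : Γ(X, W)) ∈ Submodule.annihilator (Ideal.span {b}) := h ▸ trivial
    rw [Submodule.mem_annihilator] at h1
    exact hb (by simpa using h1 b (Ideal.mem_span_singleton_self b))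
  obtain ⟨q, hq⟩ := Ideal.nonempty_minimalPrimes hann
  have := hq.1.1
  let y : Spec Γ(X, W) := ⟨q, hq.1.1⟩
  have hyW : hW.fromSpec y ∈ W := by
    rw [← SetLike.mem_coe, ← hW.range_fromSpec]; exact ⟨y, rfl⟩
  let _ : Algebra Γ(X, W) (X.presheaf.stalk (hW.fromSpec y)) :=
    (X.presheaf.germ W _ hyW).hom.toAlgebra
  have : IsLocalization.AtPrime (X.presheaf.stalk (hW.fromSpec y)) q :=
    hW.isLocalization_stalk' y hyW
  -- the germ at `q` is nonzero
  have hby : algebraMap Γ(X, W) (X.presheaf.stalk (hW.fromSpec y)) b ≠ 0 := by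
    intro h
    rw [IsLocalization.map_eq_zero_iff q.primeCompl] at h
    obtain ⟨⟨s, hs⟩, hsb⟩ := h
    refine hs (hq.1.2 (Submodule.mem_annihilator.mpr fun c hc ↦ ?_))
    obtain ⟨d, rfl⟩ := Ideal.mem_span_singleton'.mp hc
    rw [smul_eq_mul, mul_left_comm, show s * b = 0 from hsb, mul_zero]
  have hyU : hW.fromSpec y ∉ U := by
    intro hyU
    apply hby
    show X.presheaf.germ W _ hyW b = 0
    rw [hbdef, TopCat.Presheaf.germ_res_apply, ← TopCat.Presheaf.germ_res_apply X.presheaf
      (homOfLE (inf_le_left : V ⊓ U ≤ V)) (hW.fromSpec y) ⟨hWV hyW, hyU⟩, ha, map_zero]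
  obtain ⟨r, hr, hreg⟩ := hZ _ hyU
  rw [← IsLocalization.AtPrime.map_eq_maximalIdeal q (X.presheaf.stalk (hW.fromSpec y)),
    ← IsLocalization.AtPrime.radical_map_of_mem_minimalPrimes _ q _ hq] at hr
  obtain ⟨n, hn⟩ := hr
  apply hby
  refine (hreg.pow n) ?_
  show r ^ n • _ = r ^ n • (0 : X.presheaf.stalk (hW.fromSpec y))
  rw [smul_zero, smul_eq_mul]
  have : (Submodule.annihilator (Ideal.span {b})).map (algebraMap Γ(X, W)
      (X.presheaf.stalk (hW.fromSpec y))) ≤
      LinearMap.ker (LinearMap.mulRight _ (algebraMap Γ(X, W) _ b)) := by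
    rw [Ideal.map_le_iff_le_comap]
    intro c hc
    rw [Submodule.mem_annihilator] at hc
    show algebraMap Γ(X, W) (X.presheaf.stalk (hW.fromSpec y)) c * algebraMap Γ(X, W) _ b = 0
    rw [← map_mul, ← smul_eq_mul, hc b (Ideal.mem_span_singleton_self b), map_zero]
  exact this hn

theorem one_le_depth_iff (R : Type u) [CommRing R] [IsLocalRing R] :
    (1 : ℕ∞) ≤ depth R R ↔ ∃ a ∈ IsLocalRing.maximalIdeal R, IsSMulRegular R a := by
  refine Groth.Agent.H4Depth.one_le_idealDepth_iff ?_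
  rw [Ideal.smul_top_eq_map, Algebra.algebraMap_self, Ideal.map_id]
  exact fun h => IsLocalRing.maximalIdeal.isMaximal R |>.ne_top (by simpa using h)

/-- Schematic density forces depth at least one outside the open. -/
theorem exists_regular_of_dense {X : Scheme.{u}} [IsLocallyNoetherian X] (U : X.Opens)
    (hU : ∀ V : X.Opens, Function.Injective (X.presheaf.map (homOfLE (inf_le_left : V ⊓ U ≤ V)).op))
    (x : X) (hx : x ∉ U) :
    ∃ a ∈ IsLocalRing.maximalIdeal (X.presheaf.stalk x), IsSMulRegular (X.presheaf.stalk x) a := by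
  by_contra hne
  push Not at hne
  obtain ⟨p, hp, hle⟩ := Groth.Agent.H4Depth.exists_associatedPrime_ge_of_no_regular hne
  obtain rfl : IsLocalRing.maximalIdeal (X.presheaf.stalk x) = p :=
    (IsLocalRing.maximalIdeal.isMaximal _).eq_of_le hp.isPrime.ne_top hle
  obtain ⟨hpr, s, hs⟩ := isAssociatedPrime_iff.mp hp
  obtain ⟨W, hW, hxW, -⟩ := exists_isAffineOpen_mem_and_subset (X := X) (U := ⊤) (x := x) trivial
  haveI := IsLocallyNoetherian.component_noetherian ⟨W, hW⟩
  letI := X.presheaf.algebra_section_stalk ⟨x, hxW⟩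
  haveI : IsLocalization.AtPrime (X.presheaf.stalk x) (hW.primeIdealOf ⟨x, hxW⟩).asIdeal :=
    hW.isLocalization_stalk ⟨x, hxW⟩
  set q := hW.primeIdealOf ⟨x, hxW⟩ with hq
  obtain ⟨⟨a, d⟩, hd⟩ := IsLocalization.surj q.asIdeal.primeCompl s
  obtain ⟨T, hT⟩ := (IsNoetherian.noetherian q.asIdeal : q.asIdeal.FG)
  have hmax : ∀ b ∈ q.asIdeal, algebraMap Γ(X, W) (X.presheaf.stalk x) b * s = 0 := fun b hb => by
    have hb' : algebraMap Γ(X, W) (X.presheaf.stalk x) b ∈ IsLocalRing.maximalIdeal (X.presheaf.stalk x) :=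
      (IsLocalization.AtPrime.to_map_mem_maximal_iff (X.presheaf.stalk x) q.asIdeal b).mpr hb
    rw [hs, Submodule.mem_colon_singleton, Submodule.mem_bot, smul_eq_mul] at hb'
    exact hb'
  have hker : ∀ b ∈ q.asIdeal, ∃ e : q.asIdeal.primeCompl, (e : Γ(X, W)) * (b * a) = 0 := fun b hb => by
    rw [← IsLocalization.map_eq_zero_iff q.asIdeal.primeCompl (X.presheaf.stalk x), map_mul,
      ← hd, ← mul_assoc, hmax b hb, zero_mul]
  choose e he using hker
  classical
  let c : q.asIdeal.primeCompl := ∏ b ∈ T.attach, e b.1 (hT ▸ Ideal.subset_span b.2)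
  let a' : Γ(X, W) := c * a
  have ha' : ∀ b ∈ q.asIdeal, b * a' = 0 := by
    intro b hb
    rw [← hT] at hb
    induction hb using Submodule.span_induction with
    | mem b hb =>
      obtain ⟨r, hr⟩ : (e b (hT ▸ Ideal.subset_span hb) : Γ(X, W)) ∣ (c : Γ(X, W)) := by
        rw [Submonoid.coe_finset_prod]
        exact Finset.dvd_prod_of_mem (fun b : {b // b ∈ T} => (e b.1 (hT ▸ Ideal.subset_span b.2) : Γ(X, W)))
          (Finset.mem_attach T ⟨b, hb⟩)
      show b * ((c : Γ(X, W)) * a) = 0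
      rw [hr, show b * ((e b (hT ▸ Ideal.subset_span hb) : Γ(X, W)) * r * a)
        = r * ((e b (hT ▸ Ideal.subset_span hb) : Γ(X, W)) * (b * a)) by ring, he, mul_zero]
    | zero => simp
    | add b b' _ _ h h' => rw [add_mul, h, h', add_zero]
    | smul r b _ h => rw [smul_eq_mul, mul_assoc, h, mul_zero]
  have hzero : a' = 0 := by
    refine hU W ?_
    rw [map_zero]
    refine TopCat.Presheaf.section_ext X.sheaf (W ⊓ U) _ 0 fun y hy => ?_
    show X.presheaf.germ (W ⊓ U) y hy (X.presheaf.map (homOfLE (inf_le_left : W ⊓ U ≤ W)).op a') =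
      X.presheaf.germ (W ⊓ U) y hy 0
    rw [map_zero]
    refine Eq.trans (TopCat.Presheaf.germ_res_apply X.presheaf _ y hy a') ?_
    letI := X.presheaf.algebra_section_stalk ⟨y, hy.1⟩
    haveI : IsLocalization.AtPrime (X.presheaf.stalk y) (hW.primeIdealOf ⟨y, hy.1⟩).asIdeal :=
      hW.isLocalization_stalk ⟨y, hy.1⟩
    obtain ⟨b, hb, hby⟩ : ∃ b ∈ q.asIdeal, b ∉ (hW.primeIdealOf ⟨y, hy.1⟩).asIdeal := by
      by_contra hne'
      push Not at hne'
      have hsp : q ⤳ hW.primeIdealOf ⟨y, hy.1⟩ := (PrimeSpectrum.le_iff_specializes _ _).mp hne'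
      have := hsp.map hW.fromSpec.continuous
      rw [hq, hW.fromSpec_primeIdealOf ⟨x, hxW⟩, hW.fromSpec_primeIdealOf ⟨y, hy.1⟩] at this
      exact hx (this.mem_open U.2 hy.2)
    exact (IsLocalization.map_eq_zero_iff (hW.primeIdealOf ⟨y, hy.1⟩).asIdeal.primeCompl
      (X.presheaf.stalk y) a').mpr ⟨⟨b, hby⟩, ha' b hb⟩
  have hs0 : s = 0 := by
    have h1 : algebraMap Γ(X, W) (X.presheaf.stalk x) (c * a) = 0 := by
      rw [show (c : Γ(X, W)) * a = 0 from hzero, map_zero]
    rw [map_mul, (IsLocalization.map_units (X.presheaf.stalk x) c).mul_right_eq_zero, ← hd,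
      (IsLocalization.map_units (X.presheaf.stalk x) d).mul_left_eq_zero] at h1
    exact h1
  subst hs0
  refine (IsLocalRing.maximalIdeal.isMaximal (X.presheaf.stalk x)).ne_top ?_
  rw [hs]
  exact eq_top_iff.mpr fun r _ => Submodule.mem_colon_singleton.mpr (by simp)

end Groth.Agent.H25Dense
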